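import Cfsg.Agent.Helper42.B43c.PBDefs

/-!
# Brauer 1943, general form (S4700, helper42): pieces (F1), (F2) of board #7550

`deg_Y_eq`, `degree_equation`: verbatim Skel statements.  `sum_Y_apply`: the Skel statement with
the extra hypothesis `D.Y.Nonempty` (without it the statement is false: `e` is a free parameter
of `PBlk`), together with `Y_nonempty`, `Y_nonempty_of_relIndex` to discharge it.
-/

set_option autoImplicit false
set_option linter.unusedSectionVars false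
set_option linter.style.haveILetI false

namespace Cfsg.Agent.Helper64.B43c

open Cfsg Cfsg.Agent.Helper42.B43c

universe u

variable {G : Type u} [Group G] [Fintype G] {p : ℕ} [Fact p.Prime] (P : Sylow p G)

theorem one_reg : ¬ p ∣ orderOf (1 : G) := by
  rw [orderOf_one]
  exact (Fact.out : p.Prime).not_dvd_one

variable {e : ℕ} (D : PBlk P e)

theorem PBlk.eps_ne_zero : (D.ε : ℂ) ≠ 0 := by
  rcases D.hε with h | h <;> rw [h] <;> norm_num

/-- (F1) all members of `Y` have the same degree -/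
theorem PBlk.deg_Y_eq (θ θ' : IrrCharacter G) (hθ : θ ∈ D.Y) (hθ' : θ' ∈ D.Y) :
    charDegree (θ : G → ℂ) = charDegree (θ' : G → ℂ) := by
  have h := D.hYeq θ hθ θ' hθ' 1 one_reg
  rw [Helper79.irr_one, Helper79.irr_one] at h
  exact_mod_cast h

/-- (F1) the degree equation -/
theorem PBlk.degree_equation (θ : IrrCharacter G) (hθ : θ ∈ D.Y) :
    D.ε * (charDegree (θ : G → ℂ) : ℤ) = ∑ᶠ χ ∈ D.X, D.εX χ * (charDegree (χ : G → ℂ) : ℤ) := by
  have hXfin : D.X.Finite := Set.toFinite _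
  have h := D.hrel θ hθ 1 one_reg
  rw [finsum_mem_eq_finite_toFinset_sum _ hXfin] at h
  rw [finsum_mem_eq_finite_toFinset_sum _ hXfin]
  have h2 : ((D.ε * (charDegree (θ : G → ℂ) : ℤ) : ℤ) : ℂ) =
      ((∑ χ ∈ hXfin.toFinset, D.εX χ * (charDegree (χ : G → ℂ) : ℤ) : ℤ) : ℂ) := by
    rw [Int.cast_mul, Int.cast_sum, Int.cast_natCast, ← Helper79.irr_one, h]
    apply Finset.sum_congr rfl
    intro χ _
    rw [Int.cast_mul, Int.cast_natCast, ← Helper79.irr_one]
  exact_mod_cast h2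

/-- `Y` is not empty as soon as `e ∣ p - 1` -/
theorem PBlk.Y_nonempty (hed : e ∣ p - 1) : D.Y.Nonempty := by
  have hp : p.Prime := Fact.out
  have hp1 : 0 < p - 1 := by
    have := hp.two_le
    omega
  have hpos : 0 < Nat.card D.Y := by
    rw [D.hcY]
    exact Nat.div_pos (Nat.le_of_dvd hp1 hed) (Nat.pos_of_dvd_of_pos hed hp1)
  rw [Nat.card_pos_iff] at hpos
  obtain ⟨⟨ψ, hψ⟩⟩ := hpos.1
  exact ⟨ψ, hψ⟩

/-- `Y` is not empty when `e = |N_G(P) : C_G(P)|` and `|P| = p` -/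
theorem PBlk.Y_nonempty_of_relIndex (hP : Nat.card P = p)
    (he : (Subgroup.centralizer ((P : Subgroup G) : Set G)).relIndex
      (Subgroup.normalizer ((P : Subgroup G) : Set G)) = e) : D.Y.Nonempty := by
  apply PBlk.Y_nonempty P D
  have h := Helper82.DefOne.relIndex_cen_nor_dvd P hP
  rw [Helper82.DefOne.nor_eq_normalizer P hP] at h
  rw [← he]
  exact h

/-- (F2) `∑_{θ ∈ Y} θ(x) = -ε` for `x ∈ P \ 1`: from `horth`, `hvalX` (with `y = 1`),
`hrel` at `1` and `hYeq` at `1`.  (Hypothesis `hY` added with respect to the Skel statement.) -/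
theorem PBlk.sum_Y_apply (hY : D.Y.Nonempty) (x : G) (hx : x ∈ (P : Subgroup G)) (hx1 : x ≠ 1) :
    ∑ᶠ θ ∈ D.Y, (θ : G → ℂ) x = -(D.ε : ℂ) := by
  classical
  have hXfin : D.X.Finite := Set.toFinite _
  have hYfin : D.Y.Finite := Set.toFinite _
  obtain ⟨θ₀, hθ₀⟩ := hY
  have horth := D.horth x hx hx1
  rw [finsum_mem_union D.hdisj hXfin hYfin] at horth
  -- the `X` part
  have hXs : ∑ᶠ χ ∈ D.X, (χ : G → ℂ) x * (χ : G → ℂ) 1 = (D.ε : ℂ) * (θ₀ : G → ℂ) 1 := by
    rw [D.hrel θ₀ hθ₀ 1 one_reg]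
    apply finsum_mem_congr rfl
    intro χ hχ
    have h1 := D.hvalX χ hχ x hx hx1 1 (Subgroup.one_mem _) one_reg
    rw [mul_one] at h1
    rw [h1]
  -- the `Y` part
  have hYs : ∑ᶠ θ ∈ D.Y, (θ : G → ℂ) x * (θ : G → ℂ) 1 =
      (θ₀ : G → ℂ) 1 * ∑ᶠ θ ∈ D.Y, (θ : G → ℂ) x := by
    rw [mul_finsum_mem' _ _ hYfin]
    apply finsum_mem_congr rfl
    intro θ hθ
    rw [D.hYeq θ hθ θ₀ hθ₀ 1 one_reg, mul_comm]
  rw [hXs, hYs] at horth
  have hne : (θ₀ : G → ℂ) 1 ≠ 0 := Helper79.irr_one_ne_zero θ₀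
  apply mul_left_cancel₀ hne
  linear_combination horth

end Cfsg.Agent.Helper64.B43c
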